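import Cfsg.Agent.Lib.E7Two.Weyl
import Cfsg.Agent.Lib.RegTorus.Centralizer

/-!
# Conjugating commuting elements into the torus

Inside the centraliser of a torus element whose stabiliser in the Weyl group has no element of order
five, the torus contains a Sylow 5-subgroup.
-/

set_option autoImplicit false

namespace CfsgLib.E7Two

open Cfsg.Lie CfsgLib.ChevStr CfsgLib.ChevStr.ChevCore CfsgLib.CycTorus CfsgLib.RegTorus
open scoped MatrixGroups

/-- If every element of prime power order centralising `x` and normalising the elements of order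
dividing `r` of the abelian subgroup lies in it, it contains a conjugate of every element of order
`r` commuting with `x`. -/
theorem exists_conj_of_normalizer {G : Type*} [Group G] [Finite G] {r : ℕ} [Fact r.Prime]
    {T : Subgroup G} (hab : ∀ a ∈ T, ∀ b ∈ T, a * b = b * a) {x y : G} (hxT : x ∈ T)
    (hy : orderOf y = r) (hxy : y * x = x * y)
    (key : ∀ g : G, g * x = x * g → (∃ i, g ^ r ^ i = 1) →
      (∀ b ∈ T, b ^ r = 1 → g * b * g⁻¹ ∈ T ∧ g⁻¹ * b * g ∈ T) → g ∈ T) :
    ∃ g : G, g * x * g⁻¹ = x ∧ g * y * g⁻¹ ∈ T := by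
  classical
  set Z := Subgroup.centralizer ({x} : Set G) with hZ
  have hTZ : T ≤ Z := fun t ht => Subgroup.mem_centralizer_singleton_iff.2 (hab t ht _ hxT)
  set T' := T.subgroupOf Z with hT'
  have hab' : ∀ a b : T', a * b = b * a := fun a b =>
    Subtype.ext (Subtype.ext (hab _ (Subgroup.mem_subgroupOf.1 a.2) _ (Subgroup.mem_subgroupOf.1 b.2)))
  obtain ⟨P⟩ : Nonempty (Sylow r T') := inferInstance
  have hPn : (P : Subgroup T').Normal := ⟨fun n hn g => by rwa [hab' g n, mul_inv_cancel_right]⟩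
  letI := Sylow.unique_of_normal P hPn
  set P0 : Subgroup Z := (P : Subgroup T').map T'.subtype with hP0
  have hmem : ∀ t : T', (∃ i, t ^ r ^ i = 1) → (t : Z) ∈ P0 := fun t ht => by
    obtain ⟨i, hi⟩ := ht
    have hp : IsPGroup r (Subgroup.zpowers t) := by
      obtain ⟨k, -, hk⟩ := (Nat.dvd_prime_pow (Fact.out : r.Prime)).1 (orderOf_dvd_of_pow_eq_one hi)
      exact IsPGroup.of_card (n := k) (by rw [Nat.card_zpowers, hk])
    obtain ⟨Q, hQ⟩ := hp.exists_le_sylow
    rw [Subsingleton.elim Q P] at hQ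
    exact ⟨t, hQ (Subgroup.mem_zpowers t), rfl⟩
  obtain ⟨S, hS⟩ := (P.isPGroup'.map T'.subtype).exists_le_sylow
  have hSP : (S : Subgroup Z) ≤ P0 := by
    by_contra hne
    set P1 := P0.subgroupOf (S : Subgroup Z) with hP1
    have hlt : P1 < ⊤ := lt_top_iff_ne_top.2 fun h =>
      hne fun s hs => Subgroup.mem_subgroupOf.1 (h ▸ Subgroup.mem_top (⟨s, hs⟩ : (S : Subgroup Z)))
    have := S.isPGroup'.isNilpotent
    obtain ⟨g, hgN, hgP⟩ := SetLike.exists_of_lt (Group.normalizerCondition_of_isNilpotent P1 hlt)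
    refine hgP (Subgroup.mem_subgroupOf.2 ?_)
    obtain ⟨i, hi⟩ := S.isPGroup' g
    have hgx := Subgroup.mem_centralizer_singleton_iff.1 g.1.2
    have hgi : (g : Z) ^ r ^ i = 1 := by rw [← Subgroup.coe_pow, hi, Subgroup.coe_one]
    have hb : ∀ b ∈ T, b ^ r = 1 →
        (g.1.1 : G) * b * g.1.1⁻¹ ∈ T ∧ g.1.1⁻¹ * b * g.1.1 ∈ T := by
      intro b hb hbr
      have hbP : (⟨b, hTZ hb⟩ : Z) ∈ P0 :=
        hmem ⟨⟨b, hTZ hb⟩, Subgroup.mem_subgroupOf.2 hb⟩
          ⟨1, Subtype.ext (Subtype.ext (by simpa using hbr))⟩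
      have hb1 : (⟨⟨b, hTZ hb⟩, hS hbP⟩ : (S : Subgroup Z)) ∈ P1 := Subgroup.mem_subgroupOf.2 hbP
      have hin : ∀ p ∈ P1, ((p : Z) : G) ∈ T := fun p hp => by
        obtain ⟨t, -, ht⟩ := Subgroup.mem_subgroupOf.1 hp
        rw [← ht]
        exact Subgroup.mem_subgroupOf.1 t.2
      exact ⟨hin _ ((Subgroup.mem_normalizer_iff.1 hgN _).1 hb1),
        hin _ ((Subgroup.mem_normalizer_iff''.1 hgN _).1 hb1)⟩
    have hgT : ((g : Z) : G) ∈ T := key _ hgx
      ⟨i, by rw [← Subgroup.coe_pow, hgi, Subgroup.coe_one]⟩ hb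
    exact hmem ⟨g.1, Subgroup.mem_subgroupOf.2 hgT⟩ ⟨i, Subtype.ext hgi⟩
  obtain ⟨Q, hQ⟩ := (IsPGroup.of_card (n := 1) (p := r)
    (show Nat.card (Subgroup.zpowers (⟨y, Subgroup.mem_centralizer_singleton_iff.2 hxy⟩ : Z)) = r ^ 1 by
      rw [Nat.card_zpowers, ← Subgroup.orderOf_coe, hy, pow_one])).exists_le_sylow
  obtain ⟨g, hg⟩ := MulAction.exists_smul_eq Z Q S
  have hgy : g * (⟨y, Subgroup.mem_centralizer_singleton_iff.2 hxy⟩ : Z) * g⁻¹ ∈ P0 := by
    refine hSP ?_
    rw [← hg, Sylow.coe_subgroup_smul]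
    exact Subgroup.smul_mem_pointwise_smul _ (MulAut.conj g) _ (hQ (Subgroup.mem_zpowers _))
  refine ⟨g.1, ?_, ?_⟩
  · rw [Subgroup.mem_centralizer_singleton_iff.1 g.2, mul_inv_cancel_right]
  · obtain ⟨t, -, ht⟩ := hgy
    have h := congrArg (Subtype.val (p := fun z => z ∈ Z)) ht
    simp only [Subgroup.coe_subtype, Subgroup.coe_mul, InvMemClass.coe_inv] at h
    rw [← h]
    exact Subgroup.mem_subgroupOf.1 t.2

section Chev

variable {D : ChevalleyDatum} {K : Type*} [Field K] (C : ChevCore D K)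

/-- A unipotent element commuting with enough torus elements is trivial. -/
theorem eq_one_of_commute_family {A : Set (Fin D.rank → Kˣ)}
    (hreg : ∀ s : Fin D.nroots, ∃ a ∈ A, C.R.torusChar a (C.R.α s) ≠ 1) {u : GL D.Idx K}
    (hu : u ∈ D.posUnipotent K) (h : ∀ a ∈ A, C.R.torus a * u = u * C.R.torus a) : u = 1 := by
  classical
  rw [C.posUnipotent_eq] at hu
  have hset := C.setOf_mem_rootList (S := {r | D.IsPosRoot r}) fun r hr => hr.1
  obtain ⟨t, rfl⟩ := C.exists_word (L := C.rootList {r | D.IsPosRoot r}) (ChevCore.sorted_filter _)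
    (by rw [hset]; exact C.R.isClosed_pos) u (by rwa [hset])
  have hpos : ∀ r ∈ C.rootList {r | D.IsPosRoot r}, D.IsPosRoot r := fun r hr =>
    (Set.ext_iff.1 hset r).1 hr
  have h0 : ∀ r ∈ C.rootList {r | D.IsPosRoot r}, t r = (fun _ => (0 : K)) r := by
    intro r hr
    by_contra hne
    obtain ⟨a, ha, hchi⟩ := hreg ⟨r, (hpos r hr).1⟩
    have h1 := torus_word C a (fun r hr => (hpos r hr).1) t
    rw [h a ha, mul_inv_cancel_right] at h1
    have h2 := C.word_injective (ChevCore.sorted_filter _) hpos _ _ h1 r hr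
    exact hchi (Units.ext (mul_right_cancel₀ hne (h2.symm.trans (one_mul _).symm)))
  rw [C.word_congr h0]
  refine List.prod_eq_one fun x hx => ?_
  obtain ⟨p, hp', rfl⟩ := List.mem_map.1 hx
  obtain ⟨r, -, rfl⟩ := List.mem_map.1 hp'
  exact C.xGL_zero r

/-- An element of prime power order centralising a torus element and sending a family of torus
elements into the torus both ways lies in the torus when the stabiliser has no such elements. -/
theorem mem_torus_of_normalizes {a : Fin D.rank → Kˣ} {A : Set (Fin D.rank → Kˣ)}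
    (hreg : ∀ s : Fin D.nroots, ∃ b ∈ A, C.R.torusChar b (C.R.α s) ≠ 1) {r : ℕ}
    (hstab : ∀ w ∈ C.hR.weyl, w ^ r = 1 →
      (∀ v, C.R.torusChar a ((wMat C.R w).mulVec v) = C.R.torusChar a v) → w = 1)
    {g : GL D.Idx K} (hg : g ∈ D.group K) (hga : g * C.R.torus a = C.R.torus a * g) {i : ℕ}
    (hgi : g ^ r ^ i = 1)
    (hA : ∀ b ∈ A, (∃ c, g * C.R.torus b * g⁻¹ = C.R.torus c) ∧
      ∃ c, g⁻¹ * C.R.torus b * g = C.R.torus c) :
    ∃ d, C.R.torus d = g := by
  obtain ⟨w, hw, β, hβ, m, hm, hmw, u, hu, rfl⟩ := C.normalForm_exists hg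
  obtain ⟨v, hv, c, rfl⟩ := C.mem_borel.1 hβ
  have hupos : u ∈ D.posUnipotent K := by
    rw [C.posUnipotent_eq]
    exact C.Ucl_mono (fun r hr => (C.hR.invRoots_closed hw).1 r hr) hu
  have hu1 : u = 1 := eq_one_of_commute_family C hreg hupos fun b hb => by
    obtain ⟨⟨b', hb'⟩, -⟩ := hA b hb
    exact (intertwine_normalForm C hw hv c hm hmw hu hb').2.2
  have hv1 : v = 1 := eq_one_of_commute_family C hreg hv fun b hb => by
    obtain ⟨-, b', hb'⟩ := hA b hb
    exact (intertwine_normalForm C hw hv c hm hmw hu (a := b') (b := b) (by rw [← hb']; group)).2.1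
  have hma := (intertwine_normalForm C hw hv c hm hmw hu (a := a) (b := a)
    (by rw [hga, mul_inv_cancel_right])).1
  subst hu1 hv1
  simp only [one_mul, mul_one] at hgi hga ⊢
  have hchar := torusChar_conj C hm hmw hma
  have hgw : C.Moves (C.R.torus c * m) w := by
    simpa using ChevCore.Moves.mul C (C.moves_torus c) hmw
  have hpow : ∀ n : ℕ, C.Moves ((C.R.torus c * m) ^ n) (w ^ n) := fun n => by
    induction n with
    | zero => simpa using C.moves_torus 1
    | succ k ih => rw [pow_succ, pow_succ]; exact ChevCore.Moves.mul C ih hgw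
  have hwi : w ^ r ^ i = 1 := by
    refine ChevCore.Moves.unique C (hpow _) ?_
    rw [hgi]
    simpa using C.moves_torus 1
  have hfix : ∀ (n : ℕ) v, C.R.torusChar a ((wMat C.R (w ^ n)).mulVec v) = C.R.torusChar a v := by
    intro n
    induction n with
    | zero => intro v; rw [pow_zero, wMat_one C.hR, Matrix.one_mulVec]
    | succ k ih =>
      intro v
      rw [pow_succ', wMat_mul C.hR hw, ← Matrix.mulVec_mulVec, hchar, ih]
  have hw1 : w = 1 := by
    clear hpow hgi
    induction i with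
    | zero => simpa using hwi
    | succ k ih =>
      refine ih (hstab _ (pow_mem hw _) ?_ (hfix _))
      rw [← pow_mul, ← pow_succ, hwi]
  subst hw1
  have hmd := C.mem_diagonal_of_moves_one hm hmw
  rw [C.diagonalSubgroup_eq] at hmd
  obtain ⟨d, rfl⟩ := hmd
  exact ⟨c * d, map_mul _ _ _⟩

end Chev

end CfsgLib.E7Two
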