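import Cfsg.Agent.Lib.E7Two.Spectral

/-!
# The lattice of type E₇ has no isometry with eigenvalues of orders four and twelve
-/

set_option autoImplicit false

namespace CfsgLib.E7Two

open Polynomial Matrix

/-- The Cartan matrix of type E₇. -/
def G7 : Matrix (Fin 7) (Fin 7) ℤ :=
  !![2, 0, -1, 0, 0, 0, 0; 0, 2, 0, -1, 0, 0, 0; -1, 0, 2, -1, 0, 0, 0; 0, -1, -1, 2, -1, 0, 0;
    0, 0, 0, -1, 2, -1, 0; 0, 0, 0, 0, -1, 2, -1; 0, 0, 0, 0, 0, -1, 2]

/-- Twice the inverse of the Cartan matrix. -/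
def M7 : Matrix (Fin 7) (Fin 7) ℤ :=
  !![4, 4, 6, 8, 6, 4, 2; 4, 7, 8, 12, 9, 6, 3; 6, 8, 12, 16, 12, 8, 4; 8, 12, 16, 24, 18, 12, 6;
    6, 9, 12, 18, 15, 10, 5; 4, 6, 8, 12, 10, 8, 4; 2, 3, 4, 6, 5, 4, 3]

theorem M7_mul : M7 * G7 = 2 := by decide +kernel

theorem G7_transpose : G7ᵀ = G7 := by decide +kernel

/-- The values of the dual form. -/
theorem val_mod_four (v : Fin 7 → ℤ) :
    (v ⬝ᵥ M7.mulVec v) % 4 = 0 ∨ (v ⬝ᵥ M7.mulVec v) % 4 = 3 := by
  obtain ⟨t, ht⟩ : ∃ t, v ⬝ᵥ M7.mulVec v = 3 * (v 1 + v 4 + v 6) ^ 2 + 4 * t :=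
    ⟨v 0 * v 0 + 2 * v 0 * v 1 + 3 * v 0 * v 2 + 4 * v 0 * v 3 + 3 * v 0 * v 4 + 2 * v 0 * v 5 +
      v 0 * v 6 + v 1 * v 1 + 4 * v 1 * v 2 + 6 * v 1 * v 3 + 3 * v 1 * v 4 + 3 * v 1 * v 5 +
      3 * v 2 * v 2 + 8 * v 2 * v 3 + 6 * v 2 * v 4 + 4 * v 2 * v 5 + 2 * v 2 * v 6 +
      6 * v 3 * v 3 + 9 * v 3 * v 4 + 6 * v 3 * v 5 + 3 * v 3 * v 6 + 3 * v 4 * v 4 +
      5 * v 4 * v 5 + v 4 * v 6 + 2 * v 5 * v 5 + 2 * v 5 * v 6,
      by simp [M7, dotProduct, Matrix.mulVec, Fin.sum_univ_succ]; ring⟩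
  rcases Int.even_or_odd (v 1 + v 4 + v 6) with ⟨k, hk⟩ | ⟨k, hk⟩ <;> rw [hk] at ht
  · left
    rw [ht, show 3 * (k + k) ^ 2 + 4 * t = 4 * (3 * k ^ 2 + t) by ring]
    simp
  · right
    rw [ht, show 3 * (2 * k + 1) ^ 2 + 4 * t = 3 + 4 * (3 * k ^ 2 + 3 * k + t) by ring,
      Int.add_mul_emod_self_left]
    norm_num

/-- The form is positive semidefinite. -/
theorem G7_nonneg (v : Fin 7 → ℤ) : 0 ≤ v ⬝ᵥ G7.mulVec v := by
  have h : 60 * (v ⬝ᵥ G7.mulVec v) = 120 * v 0 ^ 2 + 120 * v 1 ^ 2 + 120 * v 2 ^ 2 + 120 * v 3 ^ 2 +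
      120 * v 4 ^ 2 + 120 * v 5 ^ 2 + 120 * v 6 ^ 2 - 120 * (v 0 * v 2 + v 1 * v 3 + v 2 * v 3 +
        v 3 * v 4 + v 4 * v 5 + v 5 * v 6) := by
    simp [G7, dotProduct, Matrix.mulVec, Fin.sum_univ_succ]; ring
  nlinarith [sq_nonneg (2 * v 0 - v 2), sq_nonneg (3 * v 2 - 2 * v 3), sq_nonneg (2 * v 1 - v 3),
    sq_nonneg (2 * v 6 - v 5), sq_nonneg (3 * v 5 - 2 * v 4), sq_nonneg (4 * v 4 - 3 * v 3),
    sq_nonneg (v 3)]

/-- The kernel of the Cartan matrix modulo two. -/
def ker2 : Fin 7 → ZMod 2 := ![0, 1, 0, 0, 1, 0, 1]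

/-- The quotient modulo the kernel. -/
def proj2 : Matrix (Fin 6) (Fin 7) (ZMod 2) :=
  !![1, 0, 0, 0, 0, 0, 0; 0, 0, 1, 0, 0, 0, 0; 0, 0, 0, 1, 0, 0, 0; 0, 1, 0, 0, 1, 0, 0;
    0, 0, 0, 0, 0, 1, 0; 0, 1, 0, 0, 0, 0, 1]

/-- The section of the quotient. -/
def sect2 : Matrix (Fin 7) (Fin 6) (ZMod 2) :=
  !![1, 0, 0, 0, 0, 0; 0, 0, 0, 0, 0, 0; 0, 1, 0, 0, 0, 0; 0, 0, 1, 0, 0, 0; 0, 0, 0, 1, 0, 0;
    0, 0, 0, 0, 1, 0; 0, 0, 0, 0, 0, 1]

/-- The kernel as a column. -/
def col2 : Matrix (Fin 7) (Fin 1) (ZMod 2) := Matrix.of fun i _ => ker2 i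

/-- The coordinate of the kernel. -/
def row2 : Matrix (Fin 1) (Fin 7) (ZMod 2) := Matrix.of fun _ j => if j = 1 then 1 else 0

theorem bases2 : proj2 * sect2 = 1 ∧ proj2 * col2 = 0 ∧ row2 * sect2 = 0 ∧ row2 * col2 = 1 ∧
    col2 * row2 + sect2 * proj2 = 1 ∧ G7.map (Int.castRingHom (ZMod 2)) * col2 = 0 := by
  decide +kernel

theorem ker2_spec : ∀ v : Fin 7 → ZMod 2, (G7.map (Int.castRingHom (ZMod 2))).mulVec v = 0 →
    v = 0 ∨ v = ker2 := by decide +kernel

/-- Modulo two, an invertible isometry fixes the kernel, and `W⁶ + 1` maps into the kernel. -/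
theorem G7_mul_even {W : Matrix (Fin 7) (Fin 7) (ZMod 2)} {o : ℕ} (ho : 0 < o) (hWo : W ^ o = 1)
    (hG : Wᵀ * G7.map (Int.castRingHom (ZMod 2)) * W = G7.map (Int.castRingHom (ZMod 2)))
    (hχ : W.charpoly = (X + 1) * (X ^ 6 + 1)) :
    G7.map (Int.castRingHom (ZMod 2)) * (W ^ 6 + 1) = 0 := by
  obtain ⟨hps, hpc, hrs, hrc, hsum, hGc⟩ := bases2
  set G := G7.map (Int.castRingHom (ZMod 2)) with hGdef
  have hinv : W ^ (o - 1) * W = 1 := by rw [← pow_succ, Nat.sub_add_cancel ho, hWo]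
  have hGk : G.mulVec ker2 = 0 := funext fun i => congrFun (congrFun hGc i) 0
  have hWk : W.mulVec ker2 = ker2 := by
    have hinvT : (W ^ (o - 1))ᵀ * Wᵀ = 1 := by
      rw [← Matrix.transpose_mul, ← pow_succ', Nat.sub_add_cancel ho, hWo, Matrix.transpose_one]
    have e : (W ^ (o - 1))ᵀ * G = G * W := by
      conv_lhs => rw [← hG]
      rw [← mul_assoc, ← mul_assoc, hinvT, one_mul]
    have hk : G.mulVec (W.mulVec ker2) = 0 := by
      rw [Matrix.mulVec_mulVec, ← e, ← Matrix.mulVec_mulVec, hGk, Matrix.mulVec_zero]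
    rcases ker2_spec (W.mulVec ker2) hk with h | h
    · have e' := congrArg (W ^ (o - 1)).mulVec h
      rw [Matrix.mulVec_mulVec, hinv, Matrix.one_mulVec, Matrix.mulVec_zero] at e'
      exact absurd e' (by decide)
    · exact h
  have hWc : W * col2 = col2 := by
    ext i j
    exact congrFun hWk i
  set Q := proj2 * W * sect2 with hQ
  have hpW : proj2 * W = Q * proj2 :=
    calc proj2 * W = proj2 * W * (col2 * row2 + sect2 * proj2) := by rw [hsum, Matrix.mul_one]
      _ = proj2 * (W * col2) * row2 + Q * proj2 := by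
          rw [Matrix.mul_add, hQ]
          simp only [Matrix.mul_assoc]
      _ = Q * proj2 := by rw [hWc, hpc, Matrix.zero_mul, zero_add]
  have hpow : ∀ n : ℕ, proj2 * W ^ n = Q ^ n * proj2 := fun n => by
    induction n with
    | zero => rw [pow_zero, pow_zero, Matrix.mul_one, Matrix.one_mul]
    | succ k ih =>
      rw [pow_succ, ← Matrix.mul_assoc, ih, Matrix.mul_assoc, hpW, ← Matrix.mul_assoc, ← pow_succ]
  have hchar : W.charpoly = (X + 1) * Q.charpoly := by
    have hBBi : Matrix.fromCols col2 sect2 * Matrix.fromRows row2 proj2 = 1 := by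
      rw [Matrix.fromCols_mul_fromRows, hsum]
    have h1 : W.charpoly = (Matrix.fromRows row2 proj2 * (W * Matrix.fromCols col2 sect2)).charpoly := by
      have := Matrix.charpoly_mul_comm' (Matrix.fromRows row2 proj2) (W * Matrix.fromCols col2 sect2)
      simp only [Fintype.card_fin, Fintype.card_sum, Matrix.mul_assoc, hBBi, Matrix.mul_one] at this
      exact (mul_left_cancel₀ (pow_ne_zero _ X_ne_zero) this).symm
    have h2 : Matrix.fromRows row2 proj2 * (W * Matrix.fromCols col2 sect2) =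
        Matrix.fromBlocks 1 (row2 * W * sect2) 0 Q := by
      rw [Matrix.mul_fromCols, hWc, Matrix.fromRows_mul_fromCols, hrc, hpc, hQ]
      simp only [Matrix.mul_assoc]
    rw [h1, h2, Matrix.charpoly_fromBlocks_zero₂₁, Matrix.charpoly_one, Fintype.card_fin, pow_one,
      sub_eq_add_neg, show (-1 : (ZMod 2)[X]) = 1 from CharTwo.neg_eq 1]
  have hQc : Q.charpoly = X ^ 6 + 1 :=
    mul_left_cancel₀ (show (X + 1 : (ZMod 2)[X]) ≠ 0 from (monic_X_add_C (1 : ZMod 2)).ne_zero)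
      (hchar.symm.trans hχ)
  have hQ0 : Q ^ 6 + 1 = 0 := by
    have := Matrix.aeval_self_charpoly Q
    rwa [hQc, map_add, map_pow, aeval_X, map_one] at this
  have hp0 : proj2 * (W ^ 6 + 1) = 0 := by
    rw [Matrix.mul_add, hpow, Matrix.mul_one, ← Matrix.one_mul proj2, ← Matrix.mul_assoc,
      Matrix.mul_one, ← Matrix.add_mul, hQ0, Matrix.zero_mul]
  calc G * (W ^ 6 + 1) = G * ((col2 * row2 + sect2 * proj2) * (W ^ 6 + 1)) := by
        rw [hsum, Matrix.one_mul]
    _ = G * col2 * (row2 * (W ^ 6 + 1)) := by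
        rw [Matrix.add_mul, Matrix.mul_assoc sect2, hp0, Matrix.mul_zero, add_zero]
        simp only [Matrix.mul_assoc]
    _ = 0 := by rw [hGc, Matrix.zero_mul]

/-- A symmetric integral matrix of rank one is a multiple of the square of a primitive vector. -/
theorem exists_factor {H : Matrix (Fin 7) (Fin 7) ℤ} (hsym : Hᵀ = H) (h0 : H ≠ 0)
    (hminor : ∀ i j k l, H i j * H k l = H i l * H k j) :
    ∃ (m : ℤ) (γ : Fin 7 → ℤ), γ ≠ 0 ∧ H = m • Matrix.vecMulVec γ γ := by
  classical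
  obtain ⟨i₀, k, hk⟩ : ∃ i k, H i k ≠ 0 := by
    by_contra h
    push Not at h
    exact h0 (Matrix.ext h)
  obtain ⟨γ, hγ, hgcd⟩ :=
    Finset.extract_gcd (fun i => H i k) (s := Finset.univ) Finset.univ_nonempty
  set g := Finset.univ.gcd fun i => H i k with hg
  have hg0 : g ≠ 0 := fun h => hk (by rw [hγ i₀ (Finset.mem_univ _), h, zero_mul])
  obtain ⟨u, hu⟩ : ∃ u : Fin 7 → ℤ, ∑ i, u i * γ i = 1 := by
    have : Ideal.span (Set.range γ) = ⊤ := by
      obtain ⟨d, hd⟩ := (IsPrincipalIdealRing.principal (Ideal.span (Set.range γ))).principal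
      have hdv : d ∣ 1 := by
        rw [← hgcd]
        refine Finset.dvd_gcd fun i _ => ?_
        have hm : γ i ∈ Ideal.span (Set.range γ) := Ideal.subset_span (Set.mem_range_self i)
        rw [hd] at hm
        exact Ideal.mem_span_singleton.1 hm
      rw [hd]
      exact Ideal.span_singleton_eq_top.2 (isUnit_of_dvd_one hdv)
    exact Ideal.mem_span_range_iff_exists_fun.1 (this ▸ Submodule.mem_top : (1 : ℤ) ∈ _)
  have hcol : ∀ i j l, γ i * H l j = γ l * H i j := by
    intro i j l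
    have h := hminor i k l j
    rw [hγ i (Finset.mem_univ _), hγ l (Finset.mem_univ _)] at h
    refine mul_left_cancel₀ hg0 ?_
    linear_combination h
  have hH : ∀ i j, H i j = γ i * ∑ l, u l * H l j := by
    intro i j
    rw [Finset.mul_sum]
    calc H i j = (∑ l, u l * γ l) * H i j := by rw [hu, one_mul]
      _ = _ := by
        rw [Finset.sum_mul]
        exact Finset.sum_congr rfl fun l _ => by linear_combination (- u l) * hcol i j l
  refine ⟨∑ j, u j * ∑ l, u l * H l j, γ, fun h => ?_, ?_⟩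
  · simp [h] at hu
  · ext i j
    have hji : ∀ a b, H a b = H b a := fun a b => congrFun (congrFun hsym b) a
    have hc : ∀ b, ∑ l, u l * H l b = γ b * ∑ j, u j * ∑ l, u l * H l j := by
      intro b
      rw [Finset.mul_sum]
      refine Finset.sum_congr rfl fun l _ => ?_
      rw [hji l b, hH b l]
      ring
    rw [Matrix.smul_apply, Matrix.vecMulVec_apply, smul_eq_mul, hH i j, hc j]
    ring

/-- **No integral isometry of the E₇ lattice has eigenvalues of orders four and twelve.** -/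
theorem no_isometry {W : Matrix (Fin 7) (Fin 7) ℤ} (hG : Wᵀ * G7 * W = G7) {o : ℕ} (ho : 0 < o)
    (hWo : W ^ o = 1) {v₁ v₂ : Fin 7 → ℚ} (hv₁ : v₁ ≠ 0) (hv₂ : v₂ ≠ 0)
    (h12 : (aeval (ratMat W) (cyclotomic 12 ℚ)).mulVec v₁ = 0)
    (h4 : (aeval (ratMat W) (cyclotomic 4 ℚ)).mulVec v₂ = 0) : False := by
  classical
  have hirr12 := cyclotomic.irreducible_rat (show 0 < 12 by norm_num)
  have hirr4 := cyclotomic.irreducible_rat (show 0 < 4 by norm_num)
  have hcop : IsCoprime (cyclotomic 12 ℚ) (cyclotomic 4 ℚ) :=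
    cyclotomic.isCoprime_rat (by norm_num)
  have hprod : ∀ (R : Type) [CommRing R], cyclotomic 12 R * cyclotomic 4 R = X ^ 6 + 1 := by
    intro R _
    rw [cyclotomic_twelve_mul, cyclotomic_four]
    ring
  -- the characteristic polynomial
  have hdvd : (X ^ 6 + 1 : ℤ[X]) ∣ W.charpoly := by
    have hmon : (X ^ 6 + 1 : ℤ[X]).Monic := by
      rw [← hprod ℤ]; exact (cyclotomic.monic 12 ℤ).mul (cyclotomic.monic 4 ℤ)
    rw [← map_dvd_map (Int.castRingHom ℚ) Int.cast_injective hmon, ← Matrix.charpoly_map]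
    · rw [Polynomial.map_add, Polynomial.map_pow, Polynomial.map_X, Polynomial.map_one, ← hprod ℚ]
      exact hcop.mul_dvd (dvd_charpoly _ hirr12 hv₁ h12) (dvd_charpoly _ hirr4 hv₂ h4)
  obtain ⟨q, hq⟩ := hdvd
  have hdeg6 : (X ^ 6 + 1 : ℤ[X]).Monic ∧ (X ^ 6 + 1 : ℤ[X]).natDegree = 6 := by
    rw [← hprod ℤ]
    refine ⟨(cyclotomic.monic 12 ℤ).mul (cyclotomic.monic 4 ℤ), ?_⟩
    rw [(cyclotomic.monic 12 ℤ).natDegree_mul (cyclotomic.monic 4 ℤ), natDegree_cyclotomic,
      natDegree_cyclotomic]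
    decide
  have hqm : q.Monic := hdeg6.1.of_mul_monic_left (hq ▸ Matrix.charpoly_monic W)
  have hq1 : q.natDegree = 1 := by
    have := congrArg natDegree hq
    rw [Matrix.charpoly_natDegree_eq_dim, Fintype.card_fin, hdeg6.1.natDegree_mul hqm, hdeg6.2] at this
    omega
  obtain ⟨c, rfl⟩ : ∃ c, q = X + C c := ⟨_, hqm.eq_X_add_C hq1⟩
  have hc : c = 1 ∨ c = -1 := by
    have h1 := Matrix.det_eq_sign_charpoly_coeff W
    rw [hq, coeff_zero_eq_eval_zero, Fintype.card_fin] at h1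
    simp only [eval_mul, eval_add, eval_pow, eval_X, eval_one, eval_C, zero_pow (show (6:ℕ) ≠ 0 by norm_num),
      zero_add, one_mul] at h1
    have h2 : W.det ^ o = 1 := by rw [← Matrix.det_pow, hWo, Matrix.det_one]
    have h3 := Int.isUnit_iff.1 (isUnit_pow_iff ho.ne' |>.1 (h2 ▸ isUnit_one))
    omega
  have hc2 : c * c = 1 := by rcases hc with rfl | rfl <;> norm_num
  have h12' : W ^ 12 = 1 := by
    have e : (X ^ 12 - 1 : ℤ[X]) = W.charpoly * ((X - C c) * (X ^ 4 + X ^ 2 + 1)) := by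
      have hC : C c * C c = (1 : ℤ[X]) := by rw [← C_mul, hc2, C_1]
      rw [hq]
      linear_combination ((X : ℤ[X]) ^ 6 + 1) * (X ^ 4 + X ^ 2 + 1) * hC
    have := congrArg (aeval W) e
    rwa [map_mul, Matrix.aeval_self_charpoly, zero_mul, map_sub, map_pow, aeval_X, map_one, sub_eq_zero]
      at this
  set P := W ^ 6 + 1 with hP
  have hP2 : P * P = 2 • P := by
    rw [hP, add_mul, mul_add, mul_add, ← pow_add, h12', mul_one, one_mul, mul_one, two_nsmul]
    abel
  have hG6 : (W ^ 6)ᵀ * G7 * W ^ 6 = G7 := by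
    have : ∀ n : ℕ, (W ^ n)ᵀ * G7 * W ^ n = G7 := fun n => by
      induction n with
      | zero => simp
      | succ k ih =>
        rw [pow_succ, Matrix.transpose_mul]
        calc Wᵀ * (W ^ k)ᵀ * G7 * (W ^ k * W) = Wᵀ * ((W ^ k)ᵀ * G7 * W ^ k) * W := by
              simp only [Matrix.mul_assoc]
          _ = G7 := by rw [ih, hG]
    exact this 6
  have hGP : (G7 * P)ᵀ = G7 * P := by
    have e : (W ^ 6)ᵀ * G7 = G7 * W ^ 6 := by
      calc (W ^ 6)ᵀ * G7 = (W ^ 6)ᵀ * G7 * W ^ 12 := by rw [h12', mul_one]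
        _ = (W ^ 6)ᵀ * G7 * W ^ 6 * W ^ 6 := by rw [mul_assoc ((W ^ 6)ᵀ * G7), ← pow_add]
        _ = G7 * W ^ 6 := by rw [hG6]
    rw [hP, mul_add, mul_one, Matrix.transpose_add, Matrix.transpose_mul, G7_transpose, e]
  -- parity
  have heven : ∀ i j, (2 : ℤ) ∣ (G7 * P) i j := by
    have h : (Int.castRingHom (ZMod 2)).mapMatrix (G7 * P) = 0 := by
      rw [hP, map_mul, map_add, map_pow, map_one]
      refine G7_mul_even ho ?_ ?_ ?_
      · rw [← map_pow, hWo, map_one]
      · simp only [RingHom.mapMatrix_apply]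
        rw [← Matrix.transpose_map, ← Matrix.map_mul, ← Matrix.map_mul, hG]
      · rw [RingHom.mapMatrix_apply, Matrix.charpoly_map, hq]
        simp only [Polynomial.map_mul, Polynomial.map_add, Polynomial.map_pow, Polynomial.map_X,
          Polynomial.map_one, Polynomial.map_C]
        have : (Int.castRingHom (ZMod 2)) c = 1 := by rcases hc with rfl | rfl <;> decide
        rw [this, C_1, mul_comm]
    intro i j
    have := congrFun (congrFun h i) j
    exact (ZMod.intCast_zmod_eq_zero_iff_dvd _ 2).1 (by simpa using this)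
  choose H hH using heven
  have hGH : G7 * P = 2 • (Matrix.of H) := by
    ext i j; rw [hH, Matrix.smul_apply, Matrix.of_apply]; simp
  set H' := Matrix.of H with hH'
  have hPH : P = M7 * H' := by
    have e : (2 : Matrix (Fin 7) (Fin 7) ℤ) * P = (2 : Matrix (Fin 7) (Fin 7) ℤ) * (M7 * H') := by
      conv_lhs => rw [← M7_mul, mul_assoc, hGH, two_nsmul, mul_add]
      rw [two_mul]
    refine Matrix.ext fun i j => ?_
    have := congrFun (congrFun e i) j
    simp only [two_mul, Matrix.add_apply] at this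
    omega
  have hsym : H'ᵀ = H' := by
    refine Matrix.ext fun i j => ?_
    have h1 : (G7 * P) j i = (G7 * P) i j := congrFun (congrFun hGP i) j
    rw [hH, hH] at h1
    rw [Matrix.transpose_apply, hH', Matrix.of_apply, Matrix.of_apply]
    omega
  have hP0 : P ≠ 0 := by
    intro h
    have e : W ^ 6 = -1 := eq_neg_of_add_eq_zero_left h
    have := congrArg Matrix.det e
    rw [Matrix.det_pow, Matrix.det_neg, Matrix.det_one, Fintype.card_fin] at this
    generalize W.det = d at this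
    have h6 : d ^ 6 = -1 := by rw [this]; norm_num
    have h := sq_nonneg (d ^ 3)
    rw [← pow_mul, h6] at h
    exact absurd h (by decide)
  -- rank one
  have hrank : ∃ p : Fin 7 → ℚ, ∀ x, ∃ a : ℚ, (ratMat P).mulVec x = a • p := by
    set WQ := ratMat W with hWQ
    have hPQ : ratMat P = aeval WQ (cyclotomic 12 ℚ) * aeval WQ (cyclotomic 4 ℚ) := by
      rw [← map_mul, hprod, map_add, map_pow, aeval_X, map_one, hP, hWQ, ratMat, ratMat,
        ← RingHom.mapMatrix_apply, ← RingHom.mapMatrix_apply, map_add, map_pow, map_one]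
    set A := LinearMap.ker (aeval WQ (cyclotomic 12 ℚ)).mulVecLin with hA
    set B := LinearMap.ker (aeval WQ (cyclotomic 4 ℚ)).mulVecLin with hB
    have hinv : ∀ (p : ℚ[X]), ∀ x ∈ LinearMap.ker (aeval WQ p).mulVecLin,
        WQ.mulVec x ∈ LinearMap.ker (aeval WQ p).mulVecLin := by
      intro p x hx
      rw [LinearMap.mem_ker, Matrix.mulVecLin_apply] at hx ⊢
      have hcm : aeval WQ p * WQ = WQ * aeval WQ p := by
        simpa using congrArg (aeval WQ) (mul_comm p X)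
      rw [Matrix.mulVec_mulVec, hcm, ← Matrix.mulVec_mulVec, hx, Matrix.mulVec_zero]
    have hA4 : 4 ≤ Module.finrank ℚ A := by
      have := le_finrank (hinv _) hirr12 (v := v₁) (by rw [LinearMap.mem_ker, Matrix.mulVecLin_apply, h12]) hv₁ h12
      rwa [natDegree_cyclotomic, show Nat.totient 12 = 4 by decide] at this
    have hB2 : 2 ≤ Module.finrank ℚ B := by
      have := le_finrank (hinv _) hirr4 (v := v₂) (by rw [LinearMap.mem_ker, Matrix.mulVecLin_apply, h4]) hv₂ h4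
      rwa [natDegree_cyclotomic, show Nat.totient 4 = 2 by decide] at this
    have hdisj : A ⊓ B = ⊥ := by
      rw [Submodule.eq_bot_iff]
      rintro x ⟨hxA, hxB⟩
      rw [SetLike.mem_coe, LinearMap.mem_ker, Matrix.mulVecLin_apply] at hxA hxB
      obtain ⟨a, b, hab⟩ := hcop
      have := congrArg (fun f => (aeval WQ f).mulVec x) hab
      simpa [← Matrix.mulVec_mulVec, Matrix.add_mulVec, hxA, hxB] using this.symm
    have hle : A ⊔ B ≤ LinearMap.ker (ratMat P).mulVecLin := by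
      refine sup_le (fun x hx => ?_) fun x hx => ?_ <;>
        rw [LinearMap.mem_ker, Matrix.mulVecLin_apply] at hx ⊢
      · rw [hPQ, ← map_mul, mul_comm, map_mul, ← Matrix.mulVec_mulVec, hx, Matrix.mulVec_zero]
      · rw [hPQ, ← Matrix.mulVec_mulVec, hx, Matrix.mulVec_zero]
    have h6 := Submodule.finrank_mono hle
    have hsum := Submodule.finrank_sup_add_finrank_inf_eq A B
    rw [hdisj, finrank_bot] at hsum
    have hrn := LinearMap.finrank_range_add_finrank_ker (ratMat P).mulVecLin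
    rw [Module.finrank_pi, Fintype.card_fin] at hrn
    obtain ⟨p, hp⟩ := finrank_le_one_iff.1
      (show Module.finrank ℚ (LinearMap.range (ratMat P).mulVecLin) ≤ 1 by omega)
    exact ⟨p.1, fun x => by
      obtain ⟨a, ha⟩ := hp ⟨_, ⟨x, rfl⟩⟩
      exact ⟨a, (congrArg Subtype.val ha).symm⟩⟩
  have hminor : ∀ i j k l, H' i j * H' k l = H' i l * H' k j := by
    obtain ⟨p, hp⟩ := hrank
    set s := (ratMat G7).mulVec p with hs
    have hcolH : ∀ j, ∃ a : ℚ, ∀ i, (2 * H' i j : ℚ) = a * s i := by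
      intro j
      obtain ⟨a, ha⟩ := hp (Pi.single j 1)
      refine ⟨a, fun i => ?_⟩
      have e : (ratMat (G7 * P)).mulVec (Pi.single j 1) = a • s := by
        rw [ratMat_mul, ← Matrix.mulVec_mulVec, ha, Matrix.mulVec_smul]
      have := congrFun e i
      rw [Matrix.mulVec_single_one, Matrix.col_apply, hGH, two_nsmul] at this
      simp only [ratMat, Matrix.map_apply, Matrix.add_apply, map_add, eq_intCast, Pi.smul_apply,
        smul_eq_mul] at this
      rw [← this]; ring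
    choose a ha using hcolH
    intro i j k l
    have h4 : ((H' i j * H' k l : ℤ) : ℚ) = ((H' i l * H' k j : ℤ) : ℚ) := by
      push_cast
      linear_combination (ha j i * ((2 * H' k l : ℚ)) + a j * s i * ha l k - ha l i * (2 * H' k j : ℚ) - a l * s i * ha j k) / 4
    exact_mod_cast h4
  have hH0 : H' ≠ 0 := fun h => hP0 (by rw [hPH, h, mul_zero])
  obtain ⟨m, γ, hγ, hfac⟩ := exists_factor hsym hH0 hminor
  set val := γ ⬝ᵥ M7.mulVec γ with hval
  -- the equation
  have hP' : P = m • Matrix.vecMulVec (M7.mulVec γ) γ := by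
    rw [hPH, hfac, mul_smul_comm, Matrix.mul_vecMulVec]
  have hm0 : m ≠ 0 := fun h => hP0 (by rw [hP', h, zero_smul])
  have hmv : m * val = 2 := by
    obtain ⟨i, j, hij⟩ : ∃ i j, P i j ≠ 0 := by
      by_contra h
      push Not at h
      exact hP0 (Matrix.ext h)
    have h := congrFun (congrFun hP2 i) j
    have e : (P * P) i j = m * val * P i j := by
      rw [hP', Matrix.smul_mul, Matrix.mul_smul, smul_smul, Matrix.vecMulVec_mul_vecMulVec,
        Matrix.smul_apply, Matrix.smul_apply, Matrix.vecMulVec_apply]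
      simp only [Matrix.vecMulVec_apply, smul_eq_mul, Pi.smul_apply]
      rw [← hval]
      ring
    rw [e, Matrix.smul_apply, nsmul_eq_mul] at h
    exact mul_right_cancel₀ hij h
  have hnonneg : 0 ≤ val := by
    have h := G7_nonneg (M7.mulVec γ)
    have e : M7.mulVec γ ⬝ᵥ G7.mulVec (M7.mulVec γ) = 2 * val := by
      have hGM : G7 * M7 = 2 := by decide +kernel
      rw [Matrix.mulVec_mulVec, hGM, two_mul, hval, dotProduct_comm]
      rw [show (2 : Matrix (Fin 7) (Fin 7) ℤ) = 1 + 1 by norm_num, Matrix.add_mulVec,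
        Matrix.one_mulVec, add_dotProduct]
    omega
  have hv2 : val ≤ 2 := Int.le_of_dvd two_pos ⟨m, by linarith⟩
  have h4 : val % 4 = 0 ∨ val % 4 = 3 := val_mod_four γ
  interval_cases val <;> simp at hmv h4

end CfsgLib.E7Two
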