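import Cfsg.Agent.Lib.E7Two.Centralizer
import Cfsg.Agent.Lib.RegTorus.PairCriterion
import Cfsg.Agent.Lib.PSL2.Subfield
import Mathlib.FieldTheory.Finite.GaloisField

/-!
# E₇(2) has no element of order 65
-/

set_option autoImplicit false

namespace CfsgLib.E7Two

open Cfsg.Lie CfsgLib.ChevStr CfsgLib.ChevStr.ChevCore CfsgLib.ChevField CfsgLib.CycTorus
  CfsgLib.RegTorus
open scoped MatrixGroups

section Big

variable {K : Type*} [Field K] [Fintype K] (hK : Fintype.card K = 4096)

include hK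

theorem eq_one_of_monMap {c : Fin chevE7.rank → Kˣ}
    (h : monMap (cartanMat chevE7) c = fun _ => 1) : c = 1 := by
  classical
  have h2 : ∀ j, c j ^ (2 : ℕ) = 1 := by
    have e : monMap invMatE7 (monMap (cartanMat chevE7) c) = fun _ => 1 := by
      rw [h]; exact monMap_map_one _
    rw [monMap_mul, show invMatE7 * cartanMat chevE7 = ((2 : ℕ) : ℤ) • (1 : Matrix _ _ ℤ) from
      Matrix.ext fun i k => (invMatE7_mul i k).1] at e
    intro j
    have hj := congrFun e j
    simp only [monMap, Matrix.smul_apply, Matrix.one_apply, smul_eq_mul, mul_ite, mul_one, mul_zero] at hj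
    rw [Fintype.prod_eq_single j (fun k hk => by simp [Ne.symm hk])] at hj
    simpa using hj
  funext j
  have h3 : c j ^ (4095 : ℕ) = 1 := by
    have := pow_card_eq_one (G := Kˣ) (x := c j)
    rwa [Fintype.card_units, hK] at this
  calc c j = c j ^ (4095 : ℕ) * ((c j ^ (2 : ℕ)) ^ 2047)⁻¹ := by
        rw [← pow_mul, eq_mul_inv_iff_mul_eq, ← pow_succ']
    _ = 1 := by rw [h3, h2, one_pow, inv_one, mul_one]

theorem torus_inj : Function.Injective ((coreE7 K).R.torus (F := K)) := by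
  rw [injective_iff_map_eq_one]
  intro c hc
  rw [(coreE7 K).torus_eq_one_iff] at hc
  exact eq_one_of_monMap hK hc

theorem eq_one_of_char {c : Fin chevE7.rank → Kˣ} (h : ∀ v, (coreE7 K).R.torusChar c v = 1) :
    c = 1 := by
  refine eq_one_of_monMap hK (funext fun i => ?_)
  have h1 := h ((coreE7 K).R.α (chevE7.simple i.val))
  rw [(coreE7 K).R.torusChar_root c ((coreE7 K).R.simple_lt i)] at h1
  exact h1

theorem index13 : ¬ 13 ∣ (((coreE7 K).R.torus (F := K)).codRestrict (chevE7.group K)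
    fun c => (coreE7 K).borel_le_group ((coreE7 K).torus_mem_borel c)).range.index := by
  classical
  set T := ((coreE7 K).R.torus (F := K)).codRestrict (chevE7.group K)
    fun c => (coreE7 K).borel_le_group ((coreE7 K).torus_mem_borel c) with hT
  have htinj : Function.Injective T := fun a b h => torus_inj hK (congrArg Subtype.val h)
  have hcardT : Nat.card T.range = 4095 ^ chevE7.rank := by
    rw [← Nat.card_congr (MonoidHom.ofInjective htinj).toEquiv, Nat.card_pi, Finset.prod_const,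
      Finset.card_univ, Fintype.card_fin, Nat.card_units, Nat.card_eq_fintype_card, hK]
  have hG := (coreE7 K).card_group_mul hK (ncard_isPosRoot (N := 63) (by decide +kernel)) poincareE7
    (card_diagonalE7 K |>.trans (by rw [hK]))
  rw [hK, show Nat.gcd 2 (4096 - 1) = 1 by norm_num, one_mul, ← T.range.card_mul_index, hcardT] at hG
  obtain ⟨g, hg, hgr⟩ := exists_prod_geom (Q := 4096) (r := 13) (by norm_num) (by norm_num) (by norm_num)
    [2, 6, 8, 10, 12, 14, 18] (by decide)
  rw [hg, show ([2, 6, 8, 10, 12, 14, 18] : List ℕ).length = chevE7.rank from by decide +kernel] at hG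
  have hidx : T.range.index = 4096 ^ 63 * g := by
    refine Nat.eq_of_mul_eq_mul_left (pow_pos (show 0 < 4096 - 1 by norm_num) chevE7.rank) ?_
    rw [mul_left_comm, ← hG]
  rw [hidx, (show Nat.Prime 13 by norm_num).dvd_mul, not_or]
  exact ⟨fun h => absurd ((show Nat.Prime 13 by norm_num).dvd_of_dvd_pow h) (by norm_num), hgr⟩

end Big

/-- E₇(2) has no element of order 65. -/
theorem no_element_65 : ¬ ∃ z : ↥(chevE7.group (ZMod 2)), orderOf z = 65 := by
  classical
  rintro ⟨z, hz⟩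
  have : Fact (Nat.Prime 2) := ⟨Nat.prime_two⟩
  have : Fact (Nat.Prime 5) := ⟨by norm_num⟩
  have : Fact (Nat.Prime 13) := ⟨by norm_num⟩
  let K := GaloisField 2 12
  have : Fintype K := Fintype.ofFinite K
  have hK : Fintype.card K = 4096 := by
    rw [← Nat.card_eq_fintype_card, GaloisField.card 2 12 (by norm_num)]
    norm_num
  let ι : ZMod 2 →+* K := algebraMap (ZMod 2) K
  let σ : K ≃+* K := RingEquiv.ofBijective (iterateFrobenius K 2 1)
    (Finite.injective_iff_bijective.1 (iterateFrobenius K 2 1).injective)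
  have hσ : ∀ x : K, σ x = x ^ 2 := fun x => by
    show iterateFrobenius K 2 1 x = x ^ 2
    rw [iterateFrobenius_def, pow_one]
  let C := coreE7 K
  let G := chevE7.group K
  have htG : ∀ c, C.R.torus c ∈ G := fun c => C.borel_le_group (C.torus_mem_borel c)
  let tG : (Fin chevE7.rank → Kˣ) →* G := (C.R.torus).codRestrict G htG
  have htinj : Function.Injective tG := fun a b h => torus_inj hK (congrArg Subtype.val h)
  let inc : ↥(chevE7.group (ZMod 2)) →* G :=
    (Subgroup.inclusion (group_map_le ι)).comp ((mapGL ι).subgroupMap (chevE7.group (ZMod 2)))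
  have hinc : Function.Injective inc := fun a b h =>
    Subtype.ext (mapGL_injective ι (congrArg Subtype.val h))
  have hσF : ∀ g : GL chevE7.Idx (ZMod 2), mapGL σ.toRingHom (mapGL ι g) = mapGL ι g := fun g => by
    refine Units.ext ?_
    rw [coe_mapGL, coe_mapGL, Matrix.map_map]
    refine congrArg _ (funext fun a => ?_)
    show σ (ι a) = ι a
    rw [hσ, ← map_pow, ZMod.pow_card]
  have hσt : ∀ c : Fin chevE7.rank → Kˣ,
      mapGL σ.toRingHom (C.R.torus c) = C.R.torus (c ^ 2) := fun c => by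
    rw [mapGL_torus]
    refine congrArg _ (funext fun k => Units.ext ?_)
    simpa using hσ (c k : K)
  have htwist : ∀ (g : G) (x : ↥(chevE7.group (ZMod 2))) (c : Fin chevE7.rank → Kˣ),
      tG c = g * inc x * g⁻¹ →
      mapGL σ.toRingHom (g : GL chevE7.Idx K) * (g : GL chevE7.Idx K)⁻¹ * C.R.torus c *
        (mapGL σ.toRingHom (g : GL chevE7.Idx K) * (g : GL chevE7.Idx K)⁻¹)⁻¹ = C.R.torus (c ^ 2) := by
    intro g x c hc
    have h : C.R.torus c = (g : GL chevE7.Idx K) * mapGL ι (x : GL chevE7.Idx (ZMod 2)) *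
        (g : GL chevE7.Idx K)⁻¹ :=
      congrArg Subtype.val hc
    rw [← hσt, h, map_mul, map_mul, map_inv, hσF]
    group
  have hnG : ∀ g : G,
      mapGL σ.toRingHom (g : GL chevE7.Idx K) * (g : GL chevE7.Idx K)⁻¹ ∈ chevE7.group K := fun g =>
    mul_mem (group_map_le σ.toRingHom ⟨g, g.2, rfl⟩) (inv_mem g.2)
  have hord : ∀ (x : ↥(chevE7.group (ZMod 2))) (g : G) (c : Fin chevE7.rank → Kˣ) (o : ℕ),
      o.Prime → orderOf x = o → tG c = g * inc x * g⁻¹ →
      c ^ o = 1 ∧ ∃ v, C.R.torusChar c v ≠ 1 := by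
    intro x g c o hop hx hc
    have ho : orderOf (inc x) = o := by rw [orderOf_injective inc hinc, hx]
    refine ⟨htinj ?_, ?_⟩
    · rw [map_pow, hc, conj_pow, map_one, ← ho, pow_orderOf_eq_one, mul_one, mul_inv_cancel]
    · by_contra h
      push Not at h
      rw [eq_one_of_char hK h, map_one, eq_comm, conj_eq_one_iff] at hc
      rw [hc, orderOf_one] at ho
      exact hop.ne_one ho.symm
  -- the two elements
  have hzz : z ^ 13 * z ^ 5 = z ^ 5 * z ^ 13 := pow_mul_comm z 13 5
  set x := z ^ 5 with hxdef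
  set y := z ^ 13 with hydef
  have hx : orderOf x = 13 := by rw [hxdef, orderOf_pow' _ (by norm_num), hz]; norm_num
  have hyx : y * x = x * y := hzz
  have hy : orderOf y = 5 := by rw [hydef, orderOf_pow' _ (by norm_num), hz]; norm_num
  obtain ⟨g₀, a, ha⟩ := exists_conj_mem_of_prime (T := tG.range) (index13 hK)
    (show orderOf (inc x) = 13 by rw [orderOf_injective inc hinc, hx])
  obtain ⟨ha1, ha2⟩ := hord x g₀ a 13 (by norm_num) hx ha
  obtain ⟨w, hw, hwa, -⟩ := exists_weyl_eigen C (hnG g₀) 2 (htwist g₀ x a ha) (htwist g₀ x a ha)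
  have E := eigen_of_torus ha1 ha2 hwa
  -- roots of unity of order five
  obtain ⟨ω, hω⟩ := exists_prime_orderOf_dvd_card' (G := Kˣ) 5 (by
    rw [Nat.card_units, Nat.card_eq_fintype_card, hK]; norm_num)
  let B : Set (Fin chevE7.rank → Kˣ) := Set.range fun k => Pi.mulSingle k ω
  have hB : ∀ s : Fin chevE7.nroots, ∃ b ∈ B, C.R.torusChar b (C.R.α s) ≠ 1 := by
    intro s
    obtain ⟨k, hk⟩ := exists_pairing s
    refine ⟨_, ⟨k, rfl⟩, fun h => hk ?_⟩
    rw [C.R.torusChar_root _ s.isLt, Fintype.prod_eq_single k (fun j hj => by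
      simp [Pi.mulSingle_eq_of_ne hj])] at h
    simp only [Pi.mulSingle_eq_same, ← orderOf_dvd_iff_zpow_eq_one, hω] at h
    omega
  have hstab : ∀ u ∈ C.hR.weyl, u ^ 5 = 1 →
      (∀ v, C.R.torusChar a ((wMat C.R u).mulVec v) = C.R.torusChar a v) → u = 1 :=
    fun u hu hu5 hfix => stab_no_five hw E hu hu5 hfix
  have hcomm : (g₀ * inc y * g₀⁻¹) * tG a = tG a * (g₀ * inc y * g₀⁻¹) := by
    rw [ha, show g₀ * inc y * g₀⁻¹ * (g₀ * inc x * g₀⁻¹) = g₀ * (inc y * inc x) * g₀⁻¹ by group,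
      show inc y * inc x = inc x * inc y from
        (map_mul inc y x).symm.trans ((congrArg inc hyx).trans (map_mul inc x y))]
    group
  obtain ⟨h, hh1, hh2⟩ := exists_conj_of_normalizer (r := 5) (T := tG.range)
    (by rintro _ ⟨a, rfl⟩ _ ⟨b, rfl⟩; rw [← map_mul, ← map_mul, mul_comm])
    (⟨a, rfl⟩ : tG a ∈ tG.range) (y := g₀ * inc y * g₀⁻¹)
    (by
      rw [show g₀ * inc y * g₀⁻¹ = (MulAut.conj g₀).toMonoidHom (inc y) from rfl,
        orderOf_injective _ (MulAut.conj g₀).injective, orderOf_injective inc hinc, hy])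
    hcomm (fun g hgx hgi hgT => by
      obtain ⟨i, hi⟩ := hgi
      have hbT : ∀ b ∈ B, tG b ∈ tG.range ∧ tG b ^ 5 = 1 := by
        rintro _ ⟨k, rfl⟩
        refine ⟨⟨_, rfl⟩, ?_⟩
        rw [← map_pow, show (Pi.mulSingle k ω : Fin chevE7.rank → Kˣ) ^ 5 = 1 by
          rw [← Pi.mulSingle_pow, ← hω, pow_orderOf_eq_one, Pi.mulSingle_one], map_one]
      obtain ⟨d, hd⟩ := mem_torus_of_normalizes C hB hstab g.2 (congrArg Subtype.val hgx)
        (i := i) (by rw [← Subgroup.coe_pow, hi, Subgroup.coe_one]) (fun b hb => by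
          obtain ⟨⟨c, hc⟩, ⟨c', hc'⟩⟩ := hgT _ (hbT b hb).1 (hbT b hb).2
          exact ⟨⟨c, (congrArg Subtype.val hc).symm⟩, ⟨c', (congrArg Subtype.val hc').symm⟩⟩)
      exact ⟨d, Subtype.ext hd⟩)
  obtain ⟨b, hb⟩ := hh2
  have ha' : tG a = (h * g₀) * inc x * (h * g₀)⁻¹ := by
    rw [show h * g₀ * inc x * (h * g₀)⁻¹ = h * (g₀ * inc x * g₀⁻¹) * h⁻¹ by group, ← ha, hh1]
  have hb' : tG b = (h * g₀) * inc y * (h * g₀)⁻¹ := by rw [hb]; group
  obtain ⟨w', hw', hwa', hwb'⟩ := exists_weyl_eigen C (hnG (h * g₀)) 2 (htwist _ x a ha')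
    (htwist _ y b hb')
  obtain ⟨hb1, hb2⟩ := hord y _ b 5 (by norm_num) hy hb'
  exact no_common hw' (eigen_of_torus ha1 ha2 hwa') (eigen_of_torus hb1 hb2 hwb')

end CfsgLib.E7Two
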