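import Cfsg.Agent.Lib.CycTorus.Algebra

/-!
# Invariant subspaces, irreducible polynomials and integral matrices with eigencharacters
-/

set_option autoImplicit false

namespace CfsgLib.E7Two

open Polynomial Matrix CfsgLib.CycTorus

variable {l : ℕ}

/-- An invariant subspace with a nonzero vector killed by an irreducible polynomial has at least
the dimension of its degree. -/
theorem le_finrank {K : Type*} [Field K] {U : Matrix (Fin l) (Fin l) K}
    {S : Submodule K (Fin l → K)} (hS : ∀ x ∈ S, U.mulVec x ∈ S) {p : K[X]} (hp : Irreducible p)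
    {v : Fin l → K} (hv : v ∈ S) (hv0 : v ≠ 0) (h : (aeval U p).mulVec v = 0) :
    p.natDegree ≤ Module.finrank K S := by
  have hpow : ∀ n : ℕ, (U ^ n).mulVec v ∈ S := by
    intro n
    induction n with
    | zero => simpa using hv
    | succ k ih => rw [pow_succ', ← Matrix.mulVec_mulVec]; exact hS _ ih
  let f : Fin p.natDegree → S := fun i => ⟨(U ^ (i : ℕ)).mulVec v, hpow i⟩
  suffices hli : LinearIndependent K f by simpa using hli.fintype_card_le_finrank
  rw [Fintype.linearIndependent_iff]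
  intro g hg i
  set s : K[X] := ∑ j : Fin p.natDegree, C (g j) * X ^ (j : ℕ) with hs
  have hsv : (aeval U s).mulVec v = 0 := by
    have e := congrArg Subtype.val hg
    simp only [f, Submodule.coe_sum, Submodule.coe_smul, Submodule.coe_zero] at e
    rw [hs, map_sum, Matrix.sum_mulVec, ← e]
    refine Finset.sum_congr rfl fun j _ => ?_
    rw [map_mul, aeval_C, map_pow, aeval_X, Algebra.algebraMap_eq_smul_one, smul_mul_assoc, one_mul,
      Matrix.smul_mulVec]
  have hdvd : p ∣ s := by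
    by_contra hnd
    obtain ⟨a, b, hab⟩ := (hp.coprime_iff_not_dvd.2 hnd)
    apply hv0
    have := congrArg (fun f => (aeval U f).mulVec v) hab
    simpa [← Matrix.mulVec_mulVec, Matrix.add_mulVec, h, hsv] using this.symm
  have hcoef : s.coeff i = g i := by
    simp [hs, coeff_C_mul, coeff_X_pow, Fin.val_inj]
  rw [← hcoef]
  by_contra hne
  have hs0 : s ≠ 0 := fun e => hne (by simp [e])
  have h1 := Polynomial.natDegree_le_of_dvd hdvd hs0
  have h2 : s.natDegree < p.natDegree := by
    rw [Polynomial.natDegree_lt_iff_degree_lt hs0, hs]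
    exact (degree_sum_fin_lt _)
  omega

/-- An irreducible polynomial killing a nonzero vector divides the characteristic polynomial. -/
theorem dvd_charpoly {K : Type*} [Field K] (U : Matrix (Fin l) (Fin l) K) {p : K[X]}
    (hp : Irreducible p) {v : Fin l → K} (hv0 : v ≠ 0) (h : (aeval U p).mulVec v = 0) :
    p ∣ U.charpoly := by
  by_contra hnd
  obtain ⟨a, b, hab⟩ := (hp.coprime_iff_not_dvd.2 hnd)
  apply hv0
  have := congrArg (fun f => (aeval U f).mulVec v) hab
  simpa [← Matrix.mulVec_mulVec, Matrix.add_mulVec, h, Matrix.aeval_self_charpoly] using this.symm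

/-- The rational matrix of an integral matrix. -/
abbrev ratMat (W : Matrix (Fin l) (Fin l) ℤ) : Matrix (Fin l) (Fin l) ℚ := W.map (Int.castRingHom ℚ)

theorem ratMat_mul (A B : Matrix (Fin l) (Fin l) ℤ) : ratMat (A * B) = ratMat A * ratMat B :=
  Matrix.map_mul

theorem ratMat_one : ratMat (1 : Matrix (Fin l) (Fin l) ℤ) = 1 :=
  map_one (Int.castRingHom ℚ).mapMatrix

theorem ratMat_pow (A : Matrix (Fin l) (Fin l) ℤ) (n : ℕ) : ratMat (A ^ n) = ratMat A ^ n :=
  map_pow (Int.castRingHom ℚ).mapMatrix A n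

/-- An eigencharacter gives a nonzero vector killed by the cyclotomic polynomial, inside the range
of any commuting matrix not killing the character. -/
theorem eigen_vec {G : Type*} [CommGroup G] {r : ℕ} {W : Matrix (Fin l) (Fin l) ℤ} {a : ℤ}
    {χ : (Fin l → ℤ) → G} (E : Eigen r W a χ) (hr : r.Prime) {d : ℕ}
    (ha : orderOf ((a : ℤ) : ZMod r) = d) {o : ℕ} (ho : 0 < o) (hor : ¬ r ∣ o) (hWo : W ^ o = 1)
    {A : Matrix (Fin l) (Fin l) ℤ} (hAW : Commute A W) {m : ℤ}
    (hA : ∀ x, χ (A.mulVec x) = χ x ^ m) (hm : ¬ (r : ℤ) ∣ m) :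
    ∃ v ∈ (LinearMap.range (ratMat A).mulVecLin),
      v ≠ 0 ∧ (aeval (ratMat W) (cyclotomic d ℚ)).mulVec v = 0 := by
  classical
  have := Fact.mk hr
  set Q : ℤ[X] := ∏ e ∈ o.divisors.erase d, cyclotomic e ℤ with hQ
  obtain ⟨v, hv⟩ := E.ne
  have hnd : ∀ e ∈ o.divisors, e ≠ d → ¬ (r : ℤ) ∣ (cyclotomic e ℤ).eval a := by
    intro e he hne h
    have hne0 : NeZero ((e : ℕ) : ZMod r) := ⟨by
      rw [Ne, ZMod.natCast_eq_zero_iff]
      exact fun h' => hor (h'.trans (Nat.dvd_of_mem_divisors he))⟩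
    have h0 : (cyclotomic e (ZMod r)).IsRoot ((a : ℤ) : ZMod r) := by
      rw [Polynomial.IsRoot.def, ← map_cyclotomic e (Int.castRingHom (ZMod r)),
        Polynomial.eval_intCast_map, eq_intCast, ZMod.intCast_zmod_eq_zero_iff_dvd]
      exact h
    rw [isRoot_cyclotomic_iff] at h0
    exact hne (h0.eq_orderOf.trans ha)
  have hQv : χ ((A * aeval W Q).mulVec v) ≠ 1 := by
    rw [← Matrix.mulVec_mulVec, hA, E.eig_poly, ← _root_.zpow_mul]
    refine E.zpow_ne_one hr ?_ hv (E.pow v)
    intro h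
    rcases (Nat.prime_iff_prime_int.1 hr).dvd_mul.1 h with h | h
    · rw [hQ, eval_prod, (Nat.prime_iff_prime_int.1 hr).dvd_finsetProd_iff] at h
      obtain ⟨e, he, h⟩ := h
      exact hnd e (Finset.mem_of_mem_erase he) (Finset.ne_of_mem_erase he) h
    · exact hm h
  have hprod : ∏ e ∈ o.divisors, cyclotomic e ℤ = X ^ o - 1 := prod_cyclotomic_eq_X_pow_sub_one ho ℤ
  have hd' : d ∈ o.divisors := by
    by_contra hcon
    apply hQv
    rw [hQ, Finset.erase_eq_of_notMem hcon, hprod, map_sub, map_pow, aeval_X, map_one, hWo, sub_self,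
      mul_zero, Matrix.zero_mulVec, E.zero]
  have hmul : aeval W (cyclotomic d ℤ) * aeval W Q = 0 := by
    rw [← map_mul, hQ, Finset.mul_prod_erase _ (fun e => cyclotomic e ℤ) hd', hprod, map_sub, map_pow,
      aeval_X, map_one, hWo, sub_self]
  have hcomm : Commute A (aeval W (cyclotomic d ℤ)) := by
    induction cyclotomic d ℤ using Polynomial.induction_on' with
    | add p q hp hq => rw [map_add]; exact hp.add_right hq
    | monomial n c =>
      rw [aeval_monomial]
      exact (show Commute A (algebraMap ℤ (Matrix (Fin l) (Fin l) ℤ) c) from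
        (Algebra.commutes c A).symm).mul_right (hAW.pow_right n)
  have hz : aeval W (cyclotomic d ℤ) * (A * aeval W Q) = 0 := by
    rw [← mul_assoc, ← hcomm.eq, mul_assoc, hmul, mul_zero]
  set u : Fin l → ℚ := fun i => (((A * aeval W Q).mulVec v i : ℤ) : ℚ) with hu
  have hcast : ∀ (B : Matrix (Fin l) (Fin l) ℤ) (w : Fin l → ℤ),
      (ratMat B).mulVec (fun i => ((w i : ℤ) : ℚ)) = fun i => ((B.mulVec w i : ℤ) : ℚ) := by
    intro B w; funext i; simp [ratMat, Matrix.mulVec, dotProduct]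
  refine ⟨u, ⟨fun i => (((aeval W Q).mulVec v i : ℤ) : ℚ), ?_⟩, ?_, ?_⟩
  · rw [Matrix.mulVecLin_apply, hcast, Matrix.mulVec_mulVec, hu]
  · intro h0
    apply hQv
    have : (A * aeval W Q).mulVec v = 0 := funext fun i => by
      have := congrFun h0 i
      simpa [hu] using this
    rw [this, E.zero]
  · show (aeval (W.map (Int.castRingHom ℚ)) (cyclotomic d ℚ)).mulVec u = 0
    rw [← map_cyclotomic d (Int.castRingHom ℚ), ← map_aeval, hu]
    refine (hcast (aeval W (cyclotomic d ℤ)) _).trans ?_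
    rw [Matrix.mulVec_mulVec, hz]
    funext i; simp

theorem cyclotomic_four (R : Type*) [CommRing R] : cyclotomic 4 R = X ^ 2 + 1 := by
  rw [show (4 : ℕ) = 2 * 2 from rfl, ← cyclotomic_expand_eq_cyclotomic Nat.prime_two dvd_rfl,
    cyclotomic_two]
  simp

theorem cyclotomic_twelve_mul (R : Type*) [CommRing R] :
    cyclotomic 12 R = X ^ 4 - X ^ 2 + 1 := by
  have h6 : cyclotomic 6 ℤ = X ^ 2 - X + 1 := by
    have h := cyclotomic_expand_eq_cyclotomic_mul Nat.prime_two (show ¬ 2 ∣ 3 by norm_num) ℤ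
    rw [cyclotomic_three, show (3 : ℕ) * 2 = 6 from rfl] at h
    refine mul_right_cancel₀ (b := (X ^ 2 + X + 1 : ℤ[X]))
      (cyclotomic_three ℤ ▸ cyclotomic_ne_zero 3 ℤ) (h.symm.trans ?_)
    simp
    ring
  have h12 : cyclotomic 12 ℤ = X ^ 4 - X ^ 2 + 1 := by
    have h := cyclotomic_expand_eq_cyclotomic Nat.prime_two (show 2 ∣ 6 by norm_num) ℤ
    rw [h6, show (6 : ℕ) * 2 = 12 from rfl] at h
    rw [← h]
    simp
    ring
  rw [← map_cyclotomic_int, h12]
  simp

/-- A matrix of exponent five fixing pointwise an invariant subspace with a vector killed by the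
twelfth cyclotomic polynomial is trivial in rank seven. -/
theorem no_five {W U : Matrix (Fin 7) (Fin 7) ℚ} {S : Submodule ℚ (Fin 7 → ℚ)}
    (hSW : ∀ x ∈ S, W.mulVec x ∈ S) (hSU : ∀ x ∈ S, U.mulVec x = x) (hU : U ^ 5 = 1)
    {v : Fin 7 → ℚ} (hv : v ∈ S) (hv0 : v ≠ 0) (h12 : (aeval W (cyclotomic 12 ℚ)).mulVec v = 0) :
    U = 1 := by
  by_contra hne
  obtain ⟨v₀, hv₀⟩ : ∃ v₀, U.mulVec v₀ ≠ v₀ := by
    by_contra h
    push Not at h
    exact hne (Matrix.toLin'.injective (LinearMap.ext fun x => by simpa using h x))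
  set P := aeval U (cyclotomic 5 ℚ) with hP
  set w := (U - 1).mulVec v₀ with hw
  have hw0 : w ≠ 0 := by rwa [hw, Matrix.sub_mulVec, Matrix.one_mulVec, sub_ne_zero]
  have hPw : P.mulVec w = 0 := by
    have := Fact.mk (show Nat.Prime 5 by norm_num)
    have e : aeval U (cyclotomic 5 ℚ * (X - 1)) = U ^ 5 - 1 := by
      rw [cyclotomic_prime_mul_X_sub_one]; simp
    rw [map_mul, map_sub, aeval_X, map_one, hU, sub_self] at e
    rw [hw, Matrix.mulVec_mulVec, hP, e, Matrix.zero_mulVec]
  set T := LinearMap.ker P.mulVecLin with hT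
  have hTinv : ∀ x ∈ T, U.mulVec x ∈ T := by
    intro x hx
    rw [hT, LinearMap.mem_ker, Matrix.mulVecLin_apply] at hx ⊢
    have hc : P * U = U * P := by
      simpa [hP] using congrArg (aeval U) (mul_comm (cyclotomic 5 ℚ) X)
    rw [Matrix.mulVec_mulVec, hc, ← Matrix.mulVec_mulVec, hx, Matrix.mulVec_zero]
  have h4 : ∀ n, 0 < n → n.totient = 4 → ∀ {V : Matrix (Fin 7) (Fin 7) ℚ}
      {R : Submodule ℚ (Fin 7 → ℚ)}, (∀ x ∈ R, V.mulVec x ∈ R) → ∀ {y}, y ∈ R → y ≠ 0 →
      (aeval V (cyclotomic n ℚ)).mulVec y = 0 → 4 ≤ Module.finrank ℚ R := by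
    intro n hn ht V R hR y hy hy0 hz
    have := le_finrank hR (cyclotomic.irreducible_rat hn) hy hy0 hz
    rwa [natDegree_cyclotomic, ht] at this
  have hS4 := h4 12 (by norm_num) (by decide) hSW hv hv0 h12
  have hT4 := h4 5 (by norm_num) (by decide) hTinv (y := w)
    (by rw [hT, LinearMap.mem_ker, Matrix.mulVecLin_apply, hPw]) hw0 hPw
  have hdisj : S ⊓ T = ⊥ := by
    rw [Submodule.eq_bot_iff]
    rintro x ⟨hxS, hxT⟩
    rw [SetLike.mem_coe, hT, LinearMap.mem_ker, Matrix.mulVecLin_apply, hP] at hxT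
    have hpow : ∀ n : ℕ, (U ^ n).mulVec x = x := fun n => by
      induction n with
      | zero => simp
      | succ k ih => rw [pow_succ, ← Matrix.mulVec_mulVec, hSU x hxS, ih]
    have := Fact.mk (show Nat.Prime 5 by norm_num)
    rw [cyclotomic_prime, map_sum, Matrix.sum_mulVec] at hxT
    simp only [map_pow, aeval_X, hpow, Finset.sum_const, Finset.card_range] at hxT
    exact (smul_eq_zero.1 hxT).resolve_left (by norm_num)
  have hsum := Submodule.finrank_sup_add_finrank_inf_eq S T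
  rw [hdisj, finrank_bot] at hsum
  have := Submodule.finrank_le (S ⊔ T)
  rw [Module.finrank_pi, Fintype.card_fin] at this
  omega

end CfsgLib.E7Two
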