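import Cfsg.Agent.Lib.E7Two.Lattice
import Cfsg.Agent.Lib.CycTorus.SylowTypes
import Cfsg.Agent.Lib.RegTorus.WeylEigen

/-!
# Weyl group elements of E₇ acting on eigencharacters of orders five and thirteen
-/

set_option autoImplicit false

namespace CfsgLib.E7Two

open Cfsg.Lie CfsgLib.ChevStr CfsgLib.ChevStr.ChevCore CfsgLib.CycTorus CfsgLib.RegTorus Matrix
  Polynomial

variable {K : Type*} [Field K]

/-- The matrices of Weyl group elements, with indices of rank seven. -/
noncomputable abbrev mat (w : Equiv.Perm (Fin chevE7.nroots)) : Matrix (Fin 7) (Fin 7) ℤ :=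
  wMat rootDataE7 w

theorem mat_sPerm : ∀ i : Fin chevE7.rank,
    (Matrix.of fun a b : Fin chevE7.rank =>
      rootDataE7.α (chevE7.reflectRoot i.val (chevE7.simple b.val)) a)ᵀ * cartanMat chevE7 *
    (Matrix.of fun a b : Fin chevE7.rank =>
      rootDataE7.α (chevE7.reflectRoot i.val (chevE7.simple b.val)) a) = cartanMat chevE7 := by
  decide +kernel

theorem cartanMat_entries : ∀ i : Fin 7, ∀ j : Fin 7,
    decide (chevE7.cartan j.val (chevE7.simple i.val) = G7 i j) = true := by decide +kernel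

theorem cartanMat_eq : (cartanMat chevE7 : Matrix (Fin 7) (Fin 7) ℤ) = G7 :=
  Matrix.ext fun i j => of_decide_eq_true (cartanMat_entries i j)

theorem mat_isometry {w : Equiv.Perm (Fin chevE7.nroots)} (hw : w ∈ reflDataE7.weyl) :
    (mat w)ᵀ * G7 * mat w = G7 := by
  have key : (wMat rootDataE7 w)ᵀ * cartanMat chevE7 * wMat rootDataE7 w = cartanMat chevE7 := by
    refine reflDataE7.weyl_induction (P := fun w =>
      (wMat rootDataE7 w)ᵀ * cartanMat chevE7 * wMat rootDataE7 w = cartanMat chevE7) ?_ ?_ w hw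
    · rw [wMat_one reflDataE7, Matrix.transpose_one, Matrix.one_mul, Matrix.mul_one]
    · intro u hu i ih
      rw [wMat_mul reflDataE7 hu, Matrix.transpose_mul]
      calc (wMat rootDataE7 (reflDataE7.sPerm i))ᵀ * (wMat rootDataE7 u)ᵀ * cartanMat chevE7 *
            (wMat rootDataE7 u * wMat rootDataE7 (reflDataE7.sPerm i))
          = (wMat rootDataE7 (reflDataE7.sPerm i))ᵀ *
              ((wMat rootDataE7 u)ᵀ * cartanMat chevE7 * wMat rootDataE7 u) *
              wMat rootDataE7 (reflDataE7.sPerm i) := by simp only [Matrix.mul_assoc]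
        _ = cartanMat chevE7 := by rw [ih]; exact mat_sPerm i
  rw [← cartanMat_eq]
  exact key

theorem card_weylE7 : Nat.card reflDataE7.weyl = 2903040 :=
  ((Nat.card_congr coxDataE7.equivWeyl.toEquiv).symm.trans CfsgLib.CoxeterFinite.e7_card).trans
    (by norm_num)

theorem mat_mul {v w : Equiv.Perm (Fin chevE7.nroots)} (hv : v ∈ reflDataE7.weyl) :
    mat (v * w) = mat v * mat w :=
  wMat_mul reflDataE7 hv

theorem mat_one : mat 1 = 1 := wMat_one reflDataE7

theorem mat_pow {w : Equiv.Perm (Fin chevE7.nroots)} (hw : w ∈ reflDataE7.weyl) (n : ℕ) :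
    mat (w ^ n) = mat w ^ n :=
  wMat_pow reflDataE7 hw n

theorem eq_one_of_mat {w : Equiv.Perm (Fin chevE7.nroots)} (hw : w ∈ reflDataE7.weyl)
    (h : ratMat (mat w) = 1) : w = 1 := by
  refine eq_one_of_wMat reflDataE7 hw ?_
  show mat w = 1
  refine Matrix.ext fun i j => ?_
  have := congrFun (congrFun h i) j
  simp only [ratMat, Matrix.map_apply, Matrix.one_apply, eq_intCast] at this ⊢
  split_ifs at this ⊢ <;> exact_mod_cast this

theorem orderOf_pos_dvd {w : Equiv.Perm (Fin chevE7.nroots)} (hw : w ∈ reflDataE7.weyl) :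
    0 < orderOf w ∧ orderOf w ∣ 2903040 := by
  refine ⟨orderOf_pos w, ?_⟩
  rw [← card_weylE7]
  simpa using orderOf_dvd_natCard (⟨w, hw⟩ : reflDataE7.weyl)

/-- An eigencharacter from a torus parameter of prime order. -/
theorem eigen_of_torus {w : Equiv.Perm (Fin chevE7.nroots)} {r q : ℕ}
    {a : Fin chevE7.rank → Kˣ} (har : a ^ r = 1) (hne : ∃ v, (coreE7 K).R.torusChar a v ≠ 1)
    (hw : ∀ v, (coreE7 K).R.torusChar a ((wMat (coreE7 K).R w).mulVec v) =
      (coreE7 K).R.torusChar a v ^ q) :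
    Eigen (l := 7) r (mat w) (q : ℤ) (fun v : Fin 7 → ℤ => (coreE7 K).R.torusChar a v) := by
  refine ⟨(coreE7 K).R.torusChar_add a, fun (v : Fin chevE7.rank → ℤ) => ?_,
    fun (v : Fin chevE7.rank → ℤ) => ?_, hne⟩
  · show (coreE7 K).R.torusChar a v ^ r = 1
    rw [← torusChar_pow, har]
    simp [RootData.torusChar]
  · show (coreE7 K).R.torusChar a ((wMat (coreE7 K).R w).mulVec v) = _
    rw [hw, zpow_natCast]

/-- A vector killed by `Φ₁₂` for an eigencharacter of order thirteen. -/
theorem exists_vec13 {w : Equiv.Perm (Fin chevE7.nroots)} (hw : w ∈ reflDataE7.weyl) {G : Type*}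
    [CommGroup G] {χ : (Fin 7 → ℤ) → G} (E : Eigen 13 (mat w) 2 χ)
    {A : Matrix (Fin 7) (Fin 7) ℤ} (hAW : Commute A (mat w)) {m : ℕ}
    (hA : ∀ x, χ (A.mulVec x) = χ x ^ (m : ℤ)) (hm : m ∣ 2903040) :
    ∃ v ∈ (LinearMap.range (ratMat A).mulVecLin),
      v ≠ 0 ∧ (aeval (ratMat (mat w)) (cyclotomic 12 ℚ)).mulVec v = 0 := by
  obtain ⟨ho, hod⟩ := orderOf_pos_dvd hw
  have := Fact.mk (show Nat.Prime 13 by norm_num)
  refine eigen_vec E (by norm_num) ?_ ho (fun h => ?_) ?_ hAW hA (fun h => ?_)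
  · exact orderOf_eq_of_pow_and_pow_div_prime (by norm_num) (by decide) fun p hp hpd => by
      have := Nat.le_of_dvd (by norm_num) hpd
      revert hp hpd
      interval_cases p <;> intro hp hpd <;> first | decide | exact absurd hp (by norm_num)
  · exact absurd (h.trans hod) (by norm_num)
  · rw [← mat_pow hw, pow_orderOf_eq_one, mat_one]
  · exact absurd ((Int.natCast_dvd_natCast.1 (by exact_mod_cast h)).trans hm) (by norm_num)

/-- The stabiliser of an eigencharacter of order thirteen has no element of order five. -/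
theorem stab_no_five {w : Equiv.Perm (Fin chevE7.nroots)} (hw : w ∈ reflDataE7.weyl) {G : Type*}
    [CommGroup G] {χ : (Fin 7 → ℤ) → G} (E : Eigen 13 (mat w) 2 χ)
    {u : Equiv.Perm (Fin chevE7.nroots)} (hu : u ∈ reflDataE7.weyl) (hu5 : u ^ 5 = 1)
    (hfix : ∀ v, χ ((mat u).mulVec v) = χ v) : u = 1 := by
  classical
  let S : Subgroup reflDataE7.weyl :=
    { carrier := {u | ∀ v, χ ((mat u.1).mulVec v) = χ v}
      one_mem' := fun v => by rw [OneMemClass.coe_one, mat_one, Matrix.one_mulVec]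
      mul_mem' := fun {u u'} hu hu' v => by
        rw [Subgroup.coe_mul, mat_mul u.2, ← Matrix.mulVec_mulVec, hu, hu']
      inv_mem' := fun {u} hu v => by
        rw [← hu, Matrix.mulVec_mulVec, ← mat_mul u.2, InvMemClass.coe_inv, mul_inv_cancel,
          mat_one, Matrix.one_mulVec] }
  have := Fintype.ofFinite S
  set A := ∑ s : S, mat s.1.1 with hA
  set ω : reflDataE7.weyl := ⟨w, hw⟩ with hω
  have hpow13 : ∀ x y : Fin 7 → ℤ, χ x ^ (2 : ℤ) = χ y ^ (2 : ℤ) → χ x = χ y := by
    intro x y h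
    by_contra hne
    refine E.zpow_ne_one (by norm_num : Nat.Prime 13) (n := (2 : ℤ)) (by norm_num) (x := χ x / χ y)
      (fun e => hne (div_eq_one.1 e)) ?_ (by rw [div_zpow, h, div_self'])
    rw [div_pow, E.pow, E.pow, div_one]
  have hnorm : ∀ s : reflDataE7.weyl, s ∈ S → ω * s * ω⁻¹ ∈ S := by
    intro s hs v
    obtain ⟨y, rfl⟩ : ∃ y, v = (mat w).mulVec y := ⟨(mat (ω⁻¹).1).mulVec v, by
      rw [Matrix.mulVec_mulVec, ← mat_mul hw, InvMemClass.coe_inv, mul_inv_cancel, mat_one,
        Matrix.one_mulVec]⟩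
    show χ ((mat (w * s.1 * w⁻¹)).mulVec ((mat w).mulVec y)) = _
    rw [Matrix.mulVec_mulVec, ← mat_mul (mul_mem (mul_mem hw s.2) (inv_mem hw)), inv_mul_cancel_right,
      mat_mul hw, ← Matrix.mulVec_mulVec, E.eig, hs, E.eig]
  have hAW : Commute A (mat w) := by
    show A * mat w = mat w * A
    rw [hA, Finset.sum_mul, Finset.mul_sum]
    symm
    refine Fintype.sum_equiv (Equiv.ofBijective (fun s : S => (⟨_, hnorm s.1 s.2⟩ : S))
      (Finite.injective_iff_bijective.1 fun s t e => by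
        have := congrArg (fun z : S => (z : reflDataE7.weyl)) e
        simpa using this)) _ _ fun s => ?_
    show mat w * mat s.1.1 = mat (w * s.1.1 * w⁻¹) * mat w
    rw [← mat_mul hw, ← mat_mul (mul_mem (mul_mem hw s.1.2) (inv_mem hw)), inv_mul_cancel_right]
  have hAχ : ∀ x, χ (A.mulVec x) = χ x ^ ((Fintype.card S : ℕ) : ℤ) := by
    intro x
    have hsum : ∀ (T : Finset S), χ ((∑ s ∈ T, mat s.1.1).mulVec x) = χ x ^ T.card := by
      intro T
      induction T using Finset.induction_on with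
      | empty => simp [E.zero]
      | insert s T hs ih =>
        rw [Finset.sum_insert hs, Matrix.add_mulVec, E.add, ih, s.2 x,
          Finset.card_insert_of_notMem hs, pow_succ']
    rw [zpow_natCast]
    exact hsum Finset.univ
  obtain ⟨v, hv, hv0, hvΦ⟩ := exists_vec13 hw E hAW hAχ (by
    rw [← Nat.card_eq_fintype_card, ← card_weylE7]
    exact Subgroup.card_subgroup_dvd_card S)
  have huA : mat u * A = A := by
    rw [hA, Finset.mul_sum]
    refine Fintype.sum_equiv (Equiv.mulLeft (⟨⟨u, hu⟩, hfix⟩ : S)) _ _ fun y => ?_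
    rw [← mat_mul hu]
    rfl
  refine eq_one_of_mat hu (no_five (W := ratMat (mat w)) (S := LinearMap.range (ratMat A).mulVecLin)
    ?_ ?_ ?_ hv hv0 hvΦ)
  · rintro _ ⟨x, rfl⟩
    refine ⟨(ratMat (mat w)).mulVec x, ?_⟩
    simp only [Matrix.mulVecLin_apply, Matrix.mulVec_mulVec, ← ratMat_mul, hAW.eq]
  · rintro _ ⟨x, rfl⟩
    simp only [Matrix.mulVecLin_apply, Matrix.mulVec_mulVec, ← ratMat_mul, huA]
  · rw [← ratMat_pow, ← mat_pow hu, hu5, mat_one, ratMat_one]

/-- No Weyl group element doubles characters of orders five and thirteen. -/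
theorem no_common {w : Equiv.Perm (Fin chevE7.nroots)} (hw : w ∈ reflDataE7.weyl) {G : Type*}
    [CommGroup G] {χ ψ : (Fin 7 → ℤ) → G} (E : Eigen 13 (mat w) 2 χ) (E' : Eigen 5 (mat w) 2 ψ) :
    False := by
  obtain ⟨ho, hod⟩ := orderOf_pos_dvd hw
  obtain ⟨v₁, -, hv₁, h12⟩ := exists_vec13 hw E (A := 1) (Commute.one_left _) (m := 1)
    (fun x => by simp) (one_dvd _)
  set W := ratMat (mat w) with hW
  have hWo : W ^ orderOf w = 1 := by
    rw [hW, ← ratMat_pow, ← mat_pow hw, pow_orderOf_eq_one, mat_one, ratMat_one]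
  have h5o : ¬ 5 ∣ orderOf w := by
    rintro ⟨k, hk⟩
    have hk1 : w ^ k ≠ 1 := pow_ne_one_of_lt_orderOf (by omega) (by omega)
    refine hk1 (eq_one_of_mat (pow_mem hw k) ?_)
    rw [mat_pow hw, ratMat_pow, ← hW]
    have hU : (W ^ k) ^ 5 = 1 := by rw [← pow_mul, mul_comm, ← hk, hWo]
    set S := LinearMap.ker (aeval W (cyclotomic 12 ℚ)).mulVecLin with hS
    refine no_five (W := W) (S := S) ?_ ?_ hU (v := v₁)
      (by rw [hS, LinearMap.mem_ker, Matrix.mulVecLin_apply, h12]) hv₁ h12
    · intro x hx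
      rw [hS, LinearMap.mem_ker, Matrix.mulVecLin_apply] at hx ⊢
      have hcm : aeval W (cyclotomic 12 ℚ) * W = W * aeval W (cyclotomic 12 ℚ) := by
        simpa using congrArg (aeval W) (mul_comm (cyclotomic 12 ℚ) X)
      rw [Matrix.mulVec_mulVec, hcm, ← Matrix.mulVec_mulVec, hx, Matrix.mulVec_zero]
    · intro x hx
      rw [hS, LinearMap.mem_ker, Matrix.mulVecLin_apply] at hx
      have h12x : (W ^ 12).mulVec x = x := by
        have e : (X ^ 12 - 1 : ℚ[X]) = (X ^ 8 + X ^ 6 - X ^ 2 - 1) * cyclotomic 12 ℚ := by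
          rw [cyclotomic_twelve_mul]; ring
        have := congrArg (fun f => (aeval W f).mulVec x) e
        rw [map_sub, map_pow, aeval_X, map_one, map_mul, ← Matrix.mulVec_mulVec, hx,
          Matrix.mulVec_zero, Matrix.sub_mulVec, Matrix.one_mulVec, sub_eq_zero] at this
        exact this
      have hpow : ∀ n : ℕ, (W ^ (12 * n)).mulVec x = x := fun n => by
        induction n with
        | zero => simp
        | succ j ih => rw [Nat.mul_succ, pow_add, ← Matrix.mulVec_mulVec, h12x, ih]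
      have e25 : (W ^ k) ^ 25 = 1 := by rw [show 25 = 5 * 5 from rfl, pow_mul, hU, one_pow]
      calc (W ^ k).mulVec x = (W ^ k).mulVec ((W ^ (12 * (2 * k))).mulVec x) := by rw [hpow]
        _ = ((W ^ k) ^ 25).mulVec x := by
          rw [Matrix.mulVec_mulVec, ← pow_add, ← pow_mul]; congr 2; ring
        _ = x := by rw [e25, Matrix.one_mulVec]
  have := Fact.mk (show Nat.Prime 5 by norm_num)
  obtain ⟨v₂, -, hv₂, h4⟩ := eigen_vec E' (by norm_num) (d := 4)
    (orderOf_eq_of_pow_and_pow_div_prime (by norm_num) (by decide) fun p hp hpd => by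
      have := Nat.le_of_dvd (by norm_num) hpd
      revert hp hpd
      interval_cases p <;> intro hp hpd <;> first | decide | exact absurd hp (by norm_num))
    ho h5o (by rw [← mat_pow hw, pow_orderOf_eq_one, mat_one]) (A := 1) (Commute.one_left _)
    (m := 1) (fun x => by simp) (by norm_num)
  exact no_isometry (mat_isometry hw) ho (by rw [← mat_pow hw, pow_orderOf_eq_one, mat_one]) hv₁ hv₂
    h12 h4

/-- Every root pairs nontrivially modulo five with a simple coroot. -/
theorem exists_pairing : ∀ s : Fin chevE7.nroots, ∃ k : Fin chevE7.rank,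
    chevE7.cartan k.val s.val % 5 ≠ 0 := by decide +kernel

end CfsgLib.E7Two
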